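import Cfsg.Agent.Lib.SpThreeCent.Small

/-!
# The small case: two quaternion groups at an inverting involution

In the case of `Aut PSp₄(3)` the centralizer in the subgroup of index two of an involution inverting `R` modulo
`⟨a⟩` is `(SL₂(3) ∘ SL₂(3)).2`; the product of its two quaternion groups absorbs commutators of exponent four
with elements of order three.
-/

set_option autoImplicit false
set_option linter.style.haveILetI false
set_option maxRecDepth 100000
set_option synthInstance.maxSize 10000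

namespace Cfsg.Agent.FFourLocal.Double

open Subgroup
open scoped commutatorElement
open Cfsg.Agent.NineSym (Mn V3 jM wM nCw)
open Cfsg.Agent.PSpAmalgam (SL3 Q8 negOne DoubleSL mem_Q8)

theorem sl_facts : (∀ p : SL3, p ^ 12 = 1) ∧ (∀ c : SL3, c ^ 3 = 1 → (∀ d : SL3, c * d = d * c) → c = 1) ∧
    ∀ p q : SL3, p ^ 4 = 1 → q ^ 4 = 1 → p * q * p⁻¹ * q⁻¹ = 1 ∨ p * q * p⁻¹ * q⁻¹ = negOne := by decide +kernel

theorem quat_double {C : Type*} [Group C] [Finite C] {t u : C} {ψ : SL3 →* C} (D : DoubleSL C t ψ u) :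
    ∃ N : Subgroup C, Nat.card N ∣ 32 ∧ t ∈ N ∧ (∀ m ∈ N, ∀ n ∈ N, ⁅m, n⁆ ∈ zpowers t) ∧
      ∀ x y : C, x ^ 3 = 1 → y ^ 3 = 1 → ∀ k : ℕ, (x * y) ^ (2 ^ k) = 1 → x * y ∈ N := by
  obtain ⟨h12, hcen, hq⟩ := sl_facts
  have hui : u⁻¹ = u := inv_eq_of_mul_eq_one_right D.u2
  have huu : ∀ x : C, u * (u * x) = x := fun x => by rw [← mul_assoc, D.u2, one_mul]
  set χ := (MulAut.conj u).toMonoidHom.comp ψ with hχ
  have hχa : ∀ b, χ b = u * ψ b * u := fun b => by
    show u * ψ b * u⁻¹ = _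
    rw [hui]
  have hc : ∀ p q, Commute (ψ p) (χ q) := fun p q => by rw [hχa]; exact D.comm p q
  set Φ := MonoidHom.noncommCoprod ψ χ hc with hΦ
  have hΦa : ∀ p q, Φ (p, q) = ψ p * χ q := fun p q => rfl
  have hflip : ∀ x : SL3 × SL3, u * Φ x * u = Φ (x.2, x.1) := fun ⟨p, q⟩ => by
    rw [hΦa, hΦa, ← (hc q p).symm.eq, hχa, hχa]
    simp only [mul_assoc, huu, D.u2, mul_one]
  let K : Subgroup C :=
    { carrier := {x | x ∈ Φ.range ∨ x * u ∈ Φ.range}
      one_mem' := Or.inl (one_mem _)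
      mul_mem' := by
        rintro x y (hx | ⟨a, ha⟩) (hy | hy)
        · exact Or.inl (mul_mem hx hy)
        · exact Or.inr (by rw [mul_assoc]; exact mul_mem hx hy)
        · obtain ⟨b, rfl⟩ := hy
          refine Or.inr ⟨a * (b.2, b.1), ?_⟩
          rw [map_mul, ← hflip, ha]
          simp only [mul_assoc, huu]
        · obtain ⟨b, hb⟩ := hy
          refine Or.inl ⟨a * (b.2, b.1), ?_⟩
          rw [map_mul, ← hflip, ha, hb]
          simp only [mul_assoc, huu, D.u2, mul_one]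
      inv_mem' := by
        rintro x (hx | ⟨a, ha⟩)
        · exact Or.inl (inv_mem hx)
        · refine Or.inr ⟨(a⁻¹.2, a⁻¹.1), ?_⟩
          rw [← hflip, map_inv, ha, mul_inv_rev, hui]
          simp only [mul_assoc, huu] }
  have hK : ∀ x : C, x ∈ K := by
    intro x
    refine (show closure (Set.range ψ ∪ {u}) ≤ K from (closure_le _).2 ?_) (D.gen ▸ mem_top x)
    rintro y (⟨p, rfl⟩ | rfl)
    · exact Or.inl ⟨(p, 1), by rw [hΦa, map_one, mul_one]⟩
    · exact Or.inr ⟨1, by rw [map_one, D.u2]⟩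
  have hthree : ∀ x : C, x ^ 3 = 1 → x ∈ Φ.range := fun x hx => by
    have hxx : x * x ∈ Φ.range := by
      rcases hK x with h | ⟨a, ha⟩
      · exact mul_mem h h
      · refine ⟨a * (a.2, a.1), ?_⟩
        rw [map_mul, ← hflip, ha]
        simp only [mul_assoc, huu, D.u2, mul_one]
    rw [show x = x * x * (x * x) by
      calc x = x ^ 3 * x := by rw [hx, one_mul]
        _ = _ := by simp [pow_succ, mul_assoc]]
    exact mul_mem hxx hxx
  set Θ : Q8 × Q8 →* C := Φ.comp (Q8.subtype.prodMap Q8.subtype) with hΘ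
  have hΘa : ∀ p q : Q8, Θ (p, q) = ψ p * χ q := fun _ _ => rfl
  have hneg : χ negOne = t := by
    rw [hχa, D.neg, mem_center_iff.1 D.central u, mul_assoc, D.u2, mul_one]
  have htt : t * t = 1 := by
    rw [← D.neg, ← map_mul, (by decide +kernel : negOne * negOne = 1), map_one]
  let n : Q8 := ⟨negOne, PSpAmalgam.negOne_Q8⟩
  refine ⟨Θ.range, ?_, ⟨(n, 1), ?_⟩, ?_, ?_⟩
  · have hker : (n, n) ∈ Θ.ker := by
      rw [MonoidHom.mem_ker, hΘa, D.neg, hneg, htt]
    have h2 : orderOf (n, n) = 2 := by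
      refine orderOf_eq_prime (hp := ⟨Nat.prime_two⟩) ?_ ?_
      · rw [pow_two]
        exact Prod.ext (Subtype.ext (by decide +kernel : negOne * negOne = 1))
          (Subtype.ext (by decide +kernel : negOne * negOne = 1))
      · exact fun h => absurd (congrArg Subtype.val (congrArg Prod.fst h)) (by decide +kernel : negOne ≠ 1)
    have hd := h2 ▸ Θ.ker.orderOf_dvd_natCard hker
    have hm := Θ.ker.card_eq_card_quotient_mul_card_subgroup
    rw [Nat.card_congr (QuotientGroup.quotientKerEquivRange Θ).toEquiv, Nat.card_prod, PSpAmalgam.card_Q8] at hm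
    exact Nat.dvd_of_mul_dvd_mul_right (k := 2) (by norm_num) (by rw [show 32 * 2 = 8 * 8 by norm_num, hm]; exact mul_dvd_mul_left _ hd)
  · rw [hΘa, D.neg]
    simp
  · rintro _ ⟨⟨p, q⟩, rfl⟩ _ ⟨⟨p', q'⟩, rfl⟩
    rw [← map_commutatorElement]
    show Θ (p * p' * p⁻¹ * p'⁻¹, q * q' * q⁻¹ * q'⁻¹) ∈ zpowers t
    rw [hΘa]
    refine mul_mem ?_ ?_
    · rcases hq p p' (mem_Q8.1 p.2) (mem_Q8.1 p'.2) with h | h <;>
        simp only [Subgroup.coe_mul, InvMemClass.coe_inv, h]
      · rw [map_one]; exact one_mem _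
      · rw [D.neg]; exact mem_zpowers t
    · rcases hq q q' (mem_Q8.1 q.2) (mem_Q8.1 q'.2) with h | h <;>
        simp only [Subgroup.coe_mul, InvMemClass.coe_inv, h]
      · rw [map_one]; exact one_mem _
      · rw [hneg]; exact mem_zpowers t
  · intro x y hx hy k hk
    obtain ⟨⟨p, q⟩, hpq⟩ := mul_mem (hthree x hx) (hthree y hy)
    have h4 : (x * y) ^ 4 = 1 := by
      have h1 := orderOf_dvd_of_pow_eq_one hk
      have h2 : (x * y) ^ 12 = 1 := by rw [← hpq, ← map_pow, Prod.pow_mk, h12, h12]; exact map_one Φ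
      obtain ⟨j, -, hj⟩ := (Nat.dvd_prime_pow Nat.prime_two).1 h1
      have hd := orderOf_dvd_of_pow_eq_one h2
      rw [hj] at hd
      have h8 : j < 3 := by
        by_contra h
        have h8' : 2 ^ 3 ∣ 12 := (pow_dvd_pow 2 (not_lt.1 h)).trans hd
        norm_num at h8'
      exact orderOf_dvd_iff_pow_eq_one.1 (hj ▸ pow_dvd_pow 2 (show j ≤ 2 by omega))
    rw [← hpq, ← map_pow, Prod.pow_mk, hΦa] at h4
    have hχi : Function.Injective χ := (MulAut.conj u).injective.comp D.inj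
    have hp : p ^ 4 = 1 := hcen _ (by rw [← pow_mul]; exact h12 p) fun d => D.inj (by
      rw [map_mul, map_mul, eq_inv_of_mul_eq_one_left h4]
      exact (hc d (q ^ 4)).inv_right.eq.symm)
    rw [hp, map_one, one_mul] at h4
    exact ⟨(⟨p, mem_Q8.2 hp⟩, ⟨q, mem_Q8.2 (hχi (h4.trans (map_one χ).symm))⟩), hpq⟩

open Cfsg.Agent.SpThreeCent in
/-- The two quaternion groups at an involution inverting `R` modulo `⟨a⟩`. -/
theorem exists_double {G : Type*} [Group G] [Finite G] {a : G} {R J : Subgroup G} {φ : Mn → G}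
    (D : Loc a R J true true φ) (hsmall : centralizer ({φ (jM (0, 0, 1))} : Set G) ≤ normalizer (J : Set G))
    {s : G} (hsa : s * a = a * s) (hs2 : s * s = 1) (hinv : ∀ x ∈ R, s * x * s⁻¹ * x ∈ zpowers a) :
    ∃ N : Subgroup G, Nat.card N ∣ 32 ∧ zpowers s ≤ N ∧ (∀ m ∈ N, ∀ n ∈ N, ⁅m, n⁆ ∈ zpowers s) ∧
      ∀ l w : G, l * s = s * l → w * s = s * w → w ^ 3 = 1 → (∃ k : ℕ, ⁅l, w⁆ ^ (2 ^ k) = 1) → ⁅l, w⁆ ∈ N := by
  classical
  haveI : Fact (Nat.Prime 3) := ⟨Nat.prime_three⟩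
  obtain ⟨H, hH, hr⟩ := D.exists_index_refl hsmall
  obtain ⟨hA, -, -⟩ := D.index_mem hH hr
  obtain ⟨a', φ', D'⟩ := D.loc_four hH hr
  haveI := Subgroup.normal_of_index_eq_two hH
  have hsH : s ∈ H := hA (mem_centralizer_singleton_iff.2 hsa)
  obtain ⟨t, u, e, f, d, Fr⟩ := D'.amalgam.exists_frame
  obtain ⟨hcard, ψ₀, hinj, hneg, hz, ht, hw⟩ := Fr.exists_sl
  obtain ⟨tt, ee, ff, uu, E, ψ, htt, -, -, hI⟩ := Fr.exists_invData_coe (Fr.cent_e_le Fr.pair_e)
    (Fr.cent_f_le Fr.pair_f) hcard ψ₀ hinj hneg hz ht hw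
  obtain ⟨N₀, hN32, htN, hNc, hN4⟩ := quat_double hI.doubleSL
  have hsne : ∀ {g : G}, g * g = 1 → g ∈ R → g = 1 := fun {g} h2 hg => by
    have := D.exp g hg
    rwa [pow_succ, pow_two, h2, one_mul] at this
  -- the involution `t` of the frame in `C(a)`
  have hRa : ∀ x ∈ R, x * a = a * x := fun x hx => mem_centralizer_singleton_iff.1 (D.le hx)
  have ha'a : (a' : G) ∈ zpowers a := D.center _ (mem_subgroupOf.1 D'.mem) fun y hy => by
    exact (congrArg Subtype.val (mem_centralizer_singleton_iff.1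
      (D'.le (x := ⟨y, (D.le.trans hA) hy⟩) (mem_subgroupOf.2 hy)))).symm
  have haH : a ∈ H := hA (mem_centralizer_singleton_iff.2 rfl)
  obtain ⟨k, hk⟩ := mem_zpowers_iff.1 (D'.center ⟨a, haH⟩ (mem_subgroupOf.2 D.mem) fun y hy =>
    Subtype.ext (hRa y (mem_subgroupOf.1 hy)).symm)
  have hta : Commute (t : G) a := by
    have h1 : Commute (t : G) a' := congrArg Subtype.val (mem_centralizer_singleton_iff.1 Fr.t_mem₂)
    have h2 := h1.zpow_right k
    rwa [← Subgroup.coe_zpow, hk] at h2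
  have ht2 : (t : G) * t = 1 := congrArg Subtype.val Fr.t2
  have htne : (t : G) ≠ 1 := fun h => Fr.t_ne (Subtype.ext h)
  have hs1 : s ≠ 1 := by
    intro h
    have hle : R ≤ zpowers a := fun x hx => by
      have h1 := hinv x hx
      rw [h, one_mul, inv_one, mul_one] at h1
      have h3 := D.exp x hx
      have e : x = (x * x) * (x * x) := by
        calc x = x ^ 3 * x := by rw [h3, one_mul]
          _ = _ := by simp [pow_succ, mul_assoc]
      rw [e]; exact mul_mem h1 h1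
    have := card_dvd_of_le hle
    rw [D.card_R, Nat.card_zpowers, D.order] at this
    norm_num at this
  obtain ⟨π, -, hπk⟩ := D.quot
  have hπ : ∀ (g : G) (hg : g ∈ centralizer ({a} : Set G)), g * g = 1 → g ≠ 1 → π ⟨g, hg⟩ = negOne :=
    fun g hg h2 h1 => by
      have e : π ⟨g, hg⟩ * π ⟨g, hg⟩ = 1 := by rw [← map_mul, ← map_one π]; exact congrArg π (Subtype.ext h2)
      exact (PSpAmalgam.sl_involution _ e).resolve_left fun h => h1 (hsne h2 ((hπk ⟨g, hg⟩).1 h))
  have hsC := mem_centralizer_singleton_iff.2 hsa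
  have htC : (t : G) ∈ centralizer ({a} : Set G) := mem_centralizer_singleton_iff.2 hta.eq
  have hqR : s * t ∈ R := (hπk (⟨s, hsC⟩ * ⟨t, htC⟩)).1 (by
    rw [map_mul, hπ s hsC hs2 hs1, hπ t htC ht2 htne]; decide +kernel)
  set q := s * t with hq
  have hqs : q * s * q⁻¹ = t := by
    have h3 : q * q * q = 1 := by have := D.exp q hqR; rwa [pow_succ, pow_two] at this
    have hqi : q⁻¹ = t * s := by
      rw [hq, mul_inv_rev, inv_eq_of_mul_eq_one_right ht2, inv_eq_of_mul_eq_one_right hs2]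
    calc q * s * q⁻¹ = q * s * (t * s) := by rw [hqi]
      _ = q * q * s * (t * t) := by rw [ht2, hq]; group
      _ = q * q * (s * t) * t := by group
      _ = t := by rw [← hq, h3, one_mul]
  have hqH : q ∈ H := mul_mem hsH t.2
  set ι : ↥(centralizer ({t} : Set H)) →* G :=
    (MulAut.conj q⁻¹).toMonoidHom.comp (H.subtype.comp (centralizer ({t} : Set H)).subtype) with hι
  have hιi : Function.Injective ι :=
    (MulAut.conj q⁻¹).injective.comp (H.subtype_injective.comp (centralizer ({t} : Set H)).subtype_injective)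
  have hιt : ι tt = s := by
    show q⁻¹ * ((tt : H) : G) * q⁻¹⁻¹ = s
    rw [htt, ← hqs]; group
  have hzp : ∀ x ∈ zpowers tt, ι x ∈ zpowers s := fun x hx => by
    obtain ⟨i, rfl⟩ := mem_zpowers_iff.1 hx
    rw [map_zpow, hιt]; exact mem_zpowers_iff.2 ⟨i, rfl⟩
  refine ⟨N₀.map ι, by rwa [card_map_of_injective hιi], zpowers_le.2 ⟨tt, htN, hιt⟩, ?_, fun l w hl hw h3 ⟨k, h4⟩ => ?_⟩
  · rintro _ ⟨m, hm, rfl⟩ _ ⟨n, hn, rfl⟩
    rw [← map_commutatorElement]
    exact hzp _ (hNc m hm n hn)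
  -- the two factors of order three
  have hlift : ∀ x : G, x ^ 3 = 1 → x * s = s * x → ∃ y : ↥(centralizer ({t} : Set H)), y ^ 3 = 1 ∧ ι y = x := by
    intro x hx hxs
    have hxH : x ∈ H := by
      have e : x = (x * x) * (x * x) := by
        calc x = x ^ 3 * x := by rw [hx, one_mul]
          _ = _ := by simp [pow_succ, mul_assoc]
      rw [e]
      exact mul_mem (mul_self_mem_of_index_two hH x) (mul_self_mem_of_index_two hH x)
    refine ⟨⟨⟨q * x * q⁻¹, mul_mem (mul_mem hqH hxH) (inv_mem hqH)⟩, mem_centralizer_singleton_iff.2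
      (Subtype.ext ?_)⟩, Subtype.ext (Subtype.ext ?_), ?_⟩
    · show q * x * q⁻¹ * (t : G) = t * (q * x * q⁻¹)
      rw [← hqs]
      calc q * x * q⁻¹ * (q * s * q⁻¹) = q * (x * s) * q⁻¹ := by group
        _ = q * (s * x) * q⁻¹ := by rw [hxs]
        _ = _ := by group
    · show (q * x * q⁻¹) ^ 3 = 1
      rw [conj_pow, hx, mul_one, mul_inv_cancel]
    · show q⁻¹ * (q * x * q⁻¹) * q⁻¹⁻¹ = x
      group
  have hwi : w⁻¹ * s = s * w⁻¹ := (Commute.inv_left hw).eq
  obtain ⟨x, hx3, hx⟩ := hlift (l * w * l⁻¹) (by rw [conj_pow, h3, mul_one, mul_inv_cancel])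
    (((Commute.mul_left (show Commute l s from hl) hw).mul_left (Commute.inv_left hl)).eq)
  obtain ⟨y, hy3, hy⟩ := hlift w⁻¹ (by rw [inv_pow, h3, inv_one]) hwi
  refine ⟨x * y, hN4 x y hx3 hy3 k (hιi ?_), ?_⟩
  · rw [map_pow, map_mul, hx, hy, map_one, ← h4, commutatorElement_def]
  · rw [map_mul, hx, hy, commutatorElement_def]

end Cfsg.Agent.FFourLocal.Double
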